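import Groth.Agent.EGA41Cohen.Basic
import Groth.Agent.AdmissibleSub.Sep
import Groth.Agent.Cohen.Completion
import Groth.Agent.S11741
import Groth.Agent.ArtKit.PSRing

/-! A coefficient field containing the base field, for a separable residue field. -/

set_option autoImplicit false
set_option linter.style.haveILetI false
universe u

open IsLocalRing

namespace Groth.Agent.CoeffField.Separable

theorem exists_presentation (k A : Type u) [Field k] [CommRing A] [Algebra k A] [IsNoetherianRing A] [IsLocalRing A]
    [Algebra.IsGeometricallyReduced k (ResidueField A)] :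
    ∃ (n : ℕ) (I : Ideal (MvPowerSeries (Fin n) (ResidueField A)))
      (e : (MvPowerSeries (Fin n) (ResidueField A) ⧸ I) ≃ₐ[k] AdicCompletion (maximalIdeal A) A),
      ∀ a : A, e (Ideal.Quotient.mk I (MvPowerSeries.C (residue A a))) -
          algebraMap A (AdicCompletion (maximalIdeal A) A) a ∈
        (maximalIdeal A).map (algebraMap A (AdicCompletion (maximalIdeal A) A)) := by
  classical
  let C := AdicCompletion (maximalIdeal A) A
  let κ := ResidueField A
  haveI : Algebra.FormallySmooth k κ := AdmissibleSub.formallySmooth_of_geomReduced k κ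
  let mC := maximalIdeal C
  have hmC : mC = (maximalIdeal A).map (algebraMap A C) := AdicCompletion.maximalIdeal_eq_map ..
  let u : κ →ₐ[k] C ⧸ mC := Ideal.Quotient.liftₐ (maximalIdeal A)
    ((Ideal.Quotient.mkₐ k mC).comp (IsScalarTower.toAlgHom k A C)) fun a ha =>
      Ideal.Quotient.eq_zero_iff_mem.2 (hmC ▸ Ideal.mem_map_of_mem _ ha)
  obtain ⟨v, hv⟩ := EGA41Cohen.exists_lift_formallySmooth mC u
  letI : Algebra κ C := v.toRingHom.toAlgebra
  haveI : IsScalarTower k κ C := IsScalarTower.of_algebraMap_eq fun r => (v.commutes r).symm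
  have hva : ∀ a : A, Ideal.Quotient.mk mC (v (residue A a)) = Ideal.Quotient.mk mC (algebraMap A C a) := fun a =>
    AlgHom.congr_fun hv (residue A a)
  have hR : Function.Surjective ((residue C).comp (algebraMap κ C)) := fun y => by
    obtain ⟨x, rfl⟩ := Ideal.Quotient.mk_surjective y
    obtain ⟨a, ha⟩ := Cohen.exists_sub_mem_pow (A := A) x 1
    refine ⟨residue A a, ?_⟩
    rw [pow_one] at ha
    exact (hva a).trans ((Ideal.Quotient.eq).2 ha).symm
  let d := Module.finrank (ResidueField C) (CotangentSpace C)
  let b := Module.finBasis (ResidueField C) (CotangentSpace C)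
  choose c hc using fun i : Fin d => (maximalIdeal C).toCotangent_surjective (b i)
  obtain ⟨ψ, hψ⟩ := ArtKit.exists_evalAdic (R := κ) (maximalIdeal C) (fun i => (c i : C)) fun i => (c i).2
  have hψm : ∀ i : Fin d, ψ (MvPowerSeries.X i) ∈ maximalIdeal C := fun i => by rw [hψ]; exact (c i).2
  have hsp : Submodule.span (ResidueField C)
      (Set.range fun i : Fin d => (maximalIdeal C).toCotangent ⟨ψ (MvPowerSeries.X i), hψm i⟩) = ⊤ := by
    convert b.span_eq using 3
    funext i
    rw [← hc i]
    exact congrArg _ (Subtype.ext (hψ i))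
  have hsurj : Function.Surjective ψ := AdicBasics.ps_surjective κ C hR d ψ hψm hsp
  refine ⟨d, RingHom.ker ψ, (Ideal.quotientKerAlgEquivOfSurjective hsurj).restrictScalars k, fun a => ?_⟩
  rw [← hmC]
  show ψ (MvPowerSeries.C (residue A a)) - algebraMap A C a ∈ mC
  rw [show ψ (MvPowerSeries.C (residue A a)) = v (residue A a) from ψ.commutes (residue A a)]
  exact Ideal.Quotient.eq.1 (hva a)

end Groth.Agent.CoeffField.Separable
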